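import Cfsg.Agent.Lib.Chev.CoxeterData

/-! Computing in exceptional Coxeter groups through the tabulated root systems. -/

set_option autoImplicit false
set_option maxHeartbeats 800000

namespace Cfsg.Agent.Lib.WeylWords

open Cfsg.Lie Cfsg.Agent.Lib.Chev

variable {D : ChevalleyDatum} {T : Tables} {m : ℕ} {M : CoxeterMatrix (Fin m)}

/-- The value of a word in the Coxeter group. -/
def cw (M : CoxeterMatrix (Fin m)) (ω : List (Fin m)) : M.Group := (ω.map M.simple).prod

/-- The natural-number word of a word. -/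
def nw (ω : List (Fin m)) : List ℕ := ω.map (fun i : Fin m => i.val)

theorem cw_append (ω ω' : List (Fin m)) : cw M (ω ++ ω') = cw M ω * cw M ω' := by simp [cw]

theorem cw_reverse (ω : List (Fin m)) : cw M ω.reverse = (cw M ω)⁻¹ := by
  induction ω with
  | nil => simp [cw]
  | cons i ω ih =>
    rw [List.reverse_cons, cw_append, ih, show cw M (i :: ω) = M.simple i * cw M ω by simp [cw], _root_.mul_inv_rev]
    congr 1
    have h := M.toCoxeterSystem.simple_mul_simple_self i
    rw [CoxeterMatrix.toCoxeterSystem_simple] at h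
    simpa [cw] using eq_inv_of_mul_eq_one_left h

theorem exists_word (z : M.Group) : ∃ ω : List (Fin m), cw M ω = z := by
  obtain ⟨ω, h⟩ := M.toCoxeterSystem.wordProd_surjective z
  refine ⟨ω, ?_⟩
  rw [← h, CoxeterSystem.wordProd, CoxeterMatrix.toCoxeterSystem_simple]
  rfl

theorem isW_nw (hm : D.rank = m) (ω : List (Fin m)) : IsW D (nw ω) := fun i hi => by
  obtain ⟨j, -, rfl⟩ := List.mem_map.mp hi
  exact hm ▸ j.isLt

variable (G : Good D T) (hm : D.rank = m) (h : chkCox D T M = true)
include G hm h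

theorem cw_eq_one_iff (ω : List (Fin m)) : cw M ω = 1 ↔ ∀ j < D.rank, wl T (nw ω) (sim D j) = sim D j := by
  obtain ⟨ψ, hψ⟩ := G.exists_coxeter_equiv (F := ℚ) hm h
  have e : ∀ ω : List (Fin m), ∃ hl : IsW D (nw ω), ψ (G.proj ℚ (G.nlN ℚ hl)) = cw M ω := by
    intro ω
    induction ω with
    | nil => exact ⟨isW_nw hm [], (congrArg ψ ((G.proj_eq_one).mpr (one_mem _))).trans ψ.map_one⟩
    | cons i ω ih =>
      obtain ⟨hl, he⟩ := ih
      refine ⟨isW_nw hm (i :: ω), ?_⟩
      have : G.nlN ℚ (isW_nw hm (i :: ω)) =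
          (⟨G.ni ℚ i.val, G.ni_mem_monomial (hm ▸ i.isLt)⟩ : ↥(D.monomialSubgroup ℚ)) * G.nlN ℚ hl :=
        Subtype.ext (G.nl_cons i.val (nw ω))
      rw [this, map_mul, map_mul, hψ i (hm ▸ i.isLt), he]
      simp [cw]
  obtain ⟨hl, he⟩ := e ω
  rw [← he, ψ.map_eq_one_iff, G.proj_nl_eq_one]
  constructor
  · intro hc j hj
    simpa using allLt_eq_true hc j hj
  · intro hc
    unfold chkId
    have : ∀ n f, (∀ c < n, f c = true) → allLt n f = true := by
      intro n f
      induction n with
      | zero => intro _; rfl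
      | succ n ih => intro hf; simp [allLt, hf n (Nat.lt_succ_self n), ih fun c hc => hf c (by omega)]
    exact this _ _ fun c hc' => by simp [hc c hc']

theorem cw_eq_iff (ω ω' : List (Fin m)) :
    cw M ω = cw M ω' ↔ ∀ j < D.rank, wl T (nw ω) (sim D j) = wl T (nw ω') (sim D j) := by
  have hω := isW_nw (D := D) hm ω
  have hω' := isW_nw (D := D) hm ω'
  rw [eq_comm, ← inv_mul_eq_one, ← cw_reverse, ← cw_append, cw_eq_one_iff G hm h]
  refine forall₂_congr fun j hj => ?_
  rw [nw, List.map_append, List.map_reverse, wl_append]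
  constructor
  · intro e
    have h2 := congrArg (wl T (nw ω')) e
    rw [← h2]
    exact (G.wl_wl_reverse hω' (G.wl_lt hω (G.sim_lt hj))).symm
  · intro e
    change wl T (nw ω').reverse (wl T (nw ω) (sim D j)) = _
    rw [e]
    exact G.wl_reverse_wl hω' (G.sim_lt hj)

/-- A decidable test for equality in the Coxeter group. -/
def eqTest (D : ChevalleyDatum) (T : Tables) (l l' : List ℕ) : Bool :=
  allLt D.rank fun j => wl T l (sim D j) == wl T l' (sim D j)

theorem cw_eq_of_test {ω ω' : List (Fin m)} (ht : eqTest D T (nw ω) (nw ω') = true) : cw M ω = cw M ω' :=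
  (cw_eq_iff G hm h ω ω').mpr fun j hj => by simpa using allLt_eq_true ht j hj

/-- Central elements are `±1` on the roots. -/
theorem central_cases (hS : chkSign D T = true) {hr : ℕ} (hhr : hr < D.nroots)
    (hk : ∀ x < D.rank, 0 < T.k x hr)
    (hfix : ∀ i < D.rank, ∀ r < D.nroots, T.w i r = ng D r → r = sim D i ∨ r = ng D (sim D i))
    {ω : List (Fin m)} (hz : cw M ω ∈ Subgroup.center M.Group) :
    (∀ j < D.rank, wl T (nw ω) (sim D j) = sim D j) ∨ (∀ j < D.rank, wl T (nw ω) (sim D j) = ng D (sim D j)) := by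
  have hω := isW_nw (D := D) hm ω
  have hpm : ∀ i < D.rank, wl T (nw ω) (sim D i) = sim D i ∨ wl T (nw ω) (sim D i) = ng D (sim D i) := by
    intro i hi
    have e : cw M (ω ++ [⟨i, hm ▸ hi⟩]) = cw M ([⟨i, hm ▸ hi⟩] ++ ω) := by
      rw [cw_append, cw_append]; exact (Subgroup.mem_center_iff.mp hz _).symm
    have e2 := (cw_eq_iff G hm h _ _).mp e i hi
    simp only [nw, List.map_append, List.map_cons, List.map_nil, wl_append] at e2
    simp only [wl] at e2
    change wl T (nw ω) (T.w i (sim D i)) = T.w i (wl T (nw ω) (sim D i)) at e2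
    rw [G.w_sim hi, G.wl_ng hω (G.sim_lt hi)] at e2
    exact hfix i hi _ (G.wl_lt hω (G.sim_lt hi)) e2.symm
  have hcoef : ∀ x < D.rank, T.k x (wl T (nw ω) hr) =
      (if wl T (nw ω) (sim D x) = sim D x then 1 else -1) * T.k x hr := by
    intro x hx
    rw [G.k_wl_sum hω hhr hx, Finset.sum_eq_single x]
    · split_ifs with e
      · rw [e, G.k_sim hx hx, if_pos rfl]; ring
      · rw [(hpm x hx).resolve_left e, G.k_ng (G.sim_lt hx) hx, G.k_sim hx hx, if_pos rfl]; ring
    · intro c hc hne
      have hc' := Finset.mem_range.1 hc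
      rcases hpm c hc' with e | e <;> rw [e]
      · rw [G.k_sim hc' hx, if_neg (Ne.symm hne), mul_zero]
      · rw [G.k_ng (G.sim_lt hc') hx, G.k_sim hc' hx, if_neg (Ne.symm hne), neg_zero, mul_zero]
    · intro hn; exact absurd (Finset.mem_range.2 hx) hn
  have hlt := G.wl_lt hω hhr
  by_cases hp : npos D ≤ wl T (nw ω) hr
  · refine Or.inl fun x hx => ?_
    by_contra hne
    have h1 := Good.k_nonneg hS hlt hp hx
    rw [hcoef x hx, if_neg hne] at h1
    have := hk x hx
    omega
  · refine Or.inr fun x hx => (hpm x hx).resolve_left fun hne => ?_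
    have h1 := G.k_nonpos hS hlt (by omega) hx
    rw [hcoef x hx, if_pos hne] at h1
    have := hk x hx
    omega

/-- The word with all simple roots negated is unique. -/
theorem negation_unique {ω ω0 : List (Fin m)} (hz : ∀ j < D.rank, wl T (nw ω) (sim D j) = ng D (sim D j))
    (h0 : ∀ j < D.rank, wl T (nw ω0) (sim D j) < npos D) : cw M ω = cw M ω0 := by
  have hω := isW_nw (D := D) hm ω
  have hω0 := isW_nw (D := D) hm ω0
  have hall : ∀ s < D.nroots, wl T (nw ω) s = ng D s := by
    intro s hs
    refine G.eq_of_k_eq (G.wl_lt hω hs) (G.ng_lt hs) fun x hx => ?_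
    rw [G.k_wl_sum hω hs hx, G.k_ng hs hx, Finset.sum_eq_single x]
    · rw [hz x hx, G.k_ng (G.sim_lt hx) hx, G.k_sim hx hx, if_pos rfl]; ring
    · intro c hc hne
      have hc' := Finset.mem_range.1 hc
      rw [hz c hc', G.k_ng (G.sim_lt hc') hx, G.k_sim hc' hx, if_neg (Ne.symm hne), neg_zero, mul_zero]
    · intro hn; exact absurd (Finset.mem_range.2 hx) hn
  have hrev : ∀ s < D.nroots, wl T (nw ω).reverse s = ng D s := by
    intro s hs
    have h2 := G.wl_reverse_wl hω (G.ng_lt hs)
    rw [hall _ (G.ng_lt hs), G.ng_ng hs] at h2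
    exact h2
  refine (cw_eq_iff G hm h _ _).mpr fun j hj => ?_
  have hfix := G.wl_eq_self_of_pos (hω.reverse.append hω0) (fun i hi => by
    rw [wl_append, hrev _ (G.wl_lt hω0 (G.sim_lt hi))]
    exact (G.ng_pos_iff (G.wl_lt hω0 (G.sim_lt hi))).mpr (h0 i hi)) (G.sim_lt hj)
  rw [wl_append, hrev _ (G.wl_lt hω0 (G.sim_lt hj))] at hfix
  rw [hz j hj]
  conv_lhs => rw [← hfix]
  exact G.ng_ng (G.wl_lt hω0 (G.sim_lt hj))

omit G hm h in
/-- The hypotheses on the root system used for the centre. -/
def rootTest (D : ChevalleyDatum) (T : Tables) (hr : ℕ) : Bool :=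
  decide (hr < D.nroots) && (allLt D.rank fun x => decide (0 < T.k x hr)) &&
    (allLt D.rank fun i => allLt D.nroots fun r => !(T.w i r == ng D r) || (r == sim D i) || (r == ng D (sim D i)))

omit G hm h in
/-- All simple roots become negative. -/
def negTest (D : ChevalleyDatum) (T : Tables) (l : List ℕ) : Bool :=
  allLt D.rank fun j => decide (wl T l (sim D j) < npos D)

omit G hm h in
/-- All simple roots are negated. -/
def minusTest (D : ChevalleyDatum) (T : Tables) (l : List ℕ) : Bool :=
  allLt D.rank fun j => wl T l (sim D j) == ng D (sim D j)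

theorem center_cases (hS : chkSign D T = true) {hr : ℕ} (ht : rootTest D T hr = true) {ω0 : List (Fin m)}
    (h0 : negTest D T (nw ω0) = true) {z : M.Group} (hz : z ∈ Subgroup.center M.Group) :
    z = 1 ∨ (z = cw M ω0 ∧ minusTest D T (nw ω0) = true) := by
  simp only [rootTest, Bool.and_eq_true, decide_eq_true_eq] at ht
  obtain ⟨⟨h1, h2⟩, h3⟩ := ht
  obtain ⟨ω, rfl⟩ := exists_word z
  rcases central_cases G hm h hS h1 (fun x hx => by simpa using allLt_eq_true h2 x hx)
    (fun i hi r hr e => by simpa [e] using allLt_eq_true (allLt_eq_true h3 i hi) r hr) hz with hc | hc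
  · exact Or.inl ((cw_eq_one_iff G hm h ω).mpr hc)
  · have he := negation_unique G hm h hc (ω0 := ω0) fun j hj => by simpa using allLt_eq_true h0 j hj
    refine Or.inr ⟨he, ?_⟩
    have hh := (cw_eq_iff G hm h _ _).mp he
    unfold minusTest
    have : ∀ n f, (∀ c < n, f c = true) → allLt n f = true := by
      intro n f
      induction n with
      | zero => intro _; rfl
      | succ n ih => intro hf; simp [allLt, hf n (Nat.lt_succ_self n), ih fun c hc => hf c (by omega)]
    exact this _ _ fun c hc' => by simp [← hh c hc', hc c hc']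

theorem minus_mem_center {ω0 : List (Fin m)} (h0 : minusTest D T (nw ω0) = true) :
    cw M ω0 ∈ Subgroup.center M.Group := by
  have hω0 := isW_nw (D := D) hm ω0
  have hs : ∀ s < D.nroots, wl T (nw ω0) s = ng D s := by
    intro s hs
    refine G.eq_of_k_eq (G.wl_lt hω0 hs) (G.ng_lt hs) fun x hx => ?_
    have hz : ∀ c < D.rank, wl T (nw ω0) (sim D c) = ng D (sim D c) := fun c hc => by
      simpa using allLt_eq_true h0 c hc
    rw [G.k_wl_sum hω0 hs hx, G.k_ng hs hx, Finset.sum_eq_single x]
    · rw [hz x hx, G.k_ng (G.sim_lt hx) hx, G.k_sim hx hx, if_pos rfl]; ring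
    · intro c hc hne
      have hc' := Finset.mem_range.1 hc
      rw [hz c hc', G.k_ng (G.sim_lt hc') hx, G.k_sim hc' hx, if_neg (Ne.symm hne), neg_zero, mul_zero]
    · intro hn; exact absurd (Finset.mem_range.2 hx) hn
  refine Subgroup.mem_center_iff.mpr fun g => ?_
  obtain ⟨ω, rfl⟩ := exists_word g
  have hω := isW_nw (D := D) hm ω
  rw [← cw_append, ← cw_append, cw_eq_iff G hm h]
  intro j hj
  simp only [nw, List.map_append, wl_append]
  change wl T (nw ω) (wl T (nw ω0) (sim D j)) = wl T (nw ω0) (wl T (nw ω) (sim D j))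
  rw [hs _ (G.sim_lt hj), hs _ (G.wl_lt hω (G.sim_lt hj)), G.wl_ng hω (G.sim_lt hj)]

omit G hm h in
/-- Certificates for generation: each fundamental reflection is a product of the listed generators. -/
def certTest (D : ChevalleyDatum) (T : Tables) (gens : List (List (Fin m))) (cert : Fin m → List ℕ) : Bool :=
  (List.finRange m).all fun i => eqTest D T (nw [i]) (nw (((cert i).map fun k => gens.getD k [])).flatten)

theorem closure_eq_top {gens : List (List (Fin m))} {cert : Fin m → List ℕ} (ht : certTest D T gens cert = true)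
    {S : Set M.Group} (hS : ∀ g ∈ gens, cw M g ∈ Subgroup.closure S) : Subgroup.closure S = ⊤ := by
  refine (Subgroup.eq_top_iff' _).mpr fun z => ?_
  obtain ⟨ω, rfl⟩ := exists_word z
  refine list_prod_mem fun y hy => ?_
  obtain ⟨i, -, rfl⟩ := List.mem_map.mp hy
  have e := cw_eq_of_test G hm h (List.all_eq_true.mp ht i (List.mem_finRange i))
  rw [show cw M [i] = M.simple i by simp [cw]] at e
  rw [e]
  have : ∀ L : List ℕ, cw M ((L.map fun k => gens.getD k [])).flatten ∈ Subgroup.closure S := by
    intro L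
    induction L with
    | nil => simpa [cw] using one_mem _
    | cons a L ih =>
      rw [List.map_cons, List.flatten_cons, cw_append]
      refine mul_mem ?_ ih
      by_cases ha : a < gens.length
      · rw [List.getD_eq_getElem _ _ ha]; exact hS _ (List.getElem_mem ha)
      · rw [List.getD_eq_default _ _ (by omega)]; simpa [cw] using one_mem _
  exact this _

end Cfsg.Agent.Lib.WeylWords
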